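import Groth.Agent.SepBC.Basic
import Groth.Agent.GeomConn.Pieces
import Groth.Agent.WeilLib.Iterate
import Groth.Prelude.Def_CurvBase

/-!
# Preimages under extensions of a separably closed field; points with trivial algebraic closure
-/

set_option autoImplicit false
set_option backward.isDefEq.respectTransparency false

universe u

open CategoryTheory CategoryTheory.Limits AlgebraicGeometry

namespace Groth.Agent.SepBC

variable {k : Type u} [Field k] {X : Scheme.{u}} (f : X ⟶ Spec (CommRingCat.of k))

local notation "ga" => Spec.map (CommRingCat.ofHom (algebraMap k (AlgebraicClosure k)))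

/-- Over a separably closed field `X_k̄ → X` is a homeomorphism. -/
theorem isHomeomorph_fst_ga [IsSepClosed k] : IsHomeomorph (pullback.fst f ga).base := by
  haveI : IsPurelyInseparable k (AlgebraicClosure k) := inferInstance
  haveI : UniversallyInjective (ga) := by
    refine ((tfae_universallyInjective (ga)).out 0 1).2 ?_
    intro K hK
    letI := hK
    intro g₁ g₂ hg
    obtain ⟨φ₁, rfl⟩ := Spec.map_surjective g₁
    obtain ⟨φ₂, rfl⟩ := Spec.map_surjective g₂
    refine congrArg Spec.map (CommRingCat.hom_ext ?_)
    refine IsPurelyInseparable.injective_comp_algebraMap k (AlgebraicClosure k) K ?_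
    exact congrArg CommRingCat.Hom.hom (Spec.map_injective (((Spec.map_comp _ _).trans hg).trans (Spec.map_comp _ _).symm))
  haveI : IsIntegralHom (ga) := IsIntegralHom.SpecMap_iff.mpr (algebraMap_isIntegral_iff.mpr inferInstance)
  haveI : Surjective (ga) := Groth.Agent.GeomConn.surjective_Spec_field
  haveI : UniversallyInjective (pullback.fst f ga) := MorphismProperty.pullback_fst _ _ inferInstance
  exact isHomeomorph_iff_continuous_isClosedMap_bijective.mpr
    ⟨(pullback.fst f ga).continuous, (pullback.fst f ga).isClosedMap, (pullback.fst f ga).injective,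
      (pullback.fst f ga).surjective⟩

theorem isConnected_preimage [IsSepClosed k] {K : Type u} [Field K] [Algebra k K] {C : Set X}
    (hC : _root_.IsConnected C) :
    _root_.IsConnected ((pullback.fst f (Spec.map (CommRingCat.ofHom (algebraMap k K)))).base ⁻¹' C) :=
  Groth.Agent.GeomConn.isConnected_preimage_of_algClosure f
    (hC.preimage_of_isOpenMap (isHomeomorph_fst_ga f).injective (isHomeomorph_fst_ga f).isOpenMap
      (by rw [(isHomeomorph_fst_ga f).surjective.range_eq]; exact Set.subset_univ _))

theorem isIrreducible_preimage [IsSepClosed k] {K : Type u} [Field K] [Algebra k K] {C : Set X}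
    (hC : IsIrreducible C) :
    IsIrreducible ((pullback.fst f (Spec.map (CommRingCat.ofHom (algebraMap k K)))).base ⁻¹' C) := by
  have hC' : IsIrreducible ((pullback.fst f ga).base ⁻¹' C) := by
    have h := hC.image ((isHomeomorph_fst_ga f).homeomorph.symm) (Homeomorph.continuous _).continuousOn
    rwa [Homeomorph.image_symm] at h
  let k' := AlgebraicClosure k
  let L := AlgebraicClosure K
  let ι : k' →ₐ[k] L := IsAlgClosed.lift
  letI := ι.toRingHom.toAlgebra
  let g := Spec.map (CommRingCat.ofHom (algebraMap k k'))
  let v := Spec.map (CommRingCat.ofHom (algebraMap k' L))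
  let w := Spec.map (CommRingCat.ofHom (algebraMap k K))
  let r := Spec.map (CommRingCat.ofHom (algebraMap K L))
  haveI : Surjective r := Groth.Agent.GeomConn.surjective_Spec_field
  have e : v ≫ g = r ≫ w := by
    rw [← Spec.map_comp, ← Spec.map_comp]
    congr 1
    ext a
    exact (ι.commutes a).trans (IsScalarTower.algebraMap_apply k K L a)
  have h1 := Groth.Agent.GeomConn.isIrreducible_preimage_fst (k := k') (K := L) (pullback.snd f g) hC'
  let q : pullback (pullback.snd f g) v ⟶ pullback f w :=
    (pullbackLeftPullbackSndIso f g v).hom ≫ (pullback.congrHom rfl e).hom ≫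
      (pullbackLeftPullbackSndIso f w r).inv ≫ pullback.fst _ r
  have hq : q ≫ pullback.fst f w = pullback.fst (pullback.snd f g) v ≫ pullback.fst f g := by
    simp [q]
  haveI : Surjective q := inferInstance
  have h2 := h1.image q q.continuous.continuousOn
  have heq : q '' ((pullback.fst (pullback.snd f g) v).base ⁻¹' ((pullback.fst f g).base ⁻¹' C)) =
      (pullback.fst f w).base ⁻¹' C := by
    rw [← Set.image_preimage_eq ((pullback.fst f w).base ⁻¹' C) q.surjective]
    congr 1
    ext z
    change pullback.fst f g (pullback.fst (pullback.snd f g) v z) ∈ C ↔ pullback.fst f w (q z) ∈ C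
    rw [← Scheme.Hom.comp_apply, ← Scheme.Hom.comp_apply, hq]
  rw [heq] at h2
  exact h2

theorem kStr_eq_resMap [X.Over (Spec (CommRingCat.of k))] (z : X) :
    Groth.Agent.WeilLib.kStr (X ↘ Spec (CommRingCat.of k)) z = Curv2.resMap k X z := by
  refine RingHom.ext fun c => ?_
  simp only [Groth.Agent.WeilLib.kStr, Groth.Agent.WeilLib.secStr, Scheme.Hom.appLE]
  simp [Curv2.resMap, Curv2.stalkMap, Coh.toGlobal, Scheme.evaluation]

/-- A fibre over a rational point is a subsingleton. -/
theorem subsingleton_fibre {K : Type u} [Field K] [Algebra k K] {x : X}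
    (hx : Function.Surjective (Groth.Agent.WeilLib.kStr f x)) :
    ((pullback.fst f (Spec.map (CommRingCat.ofHom (algebraMap k K)))).base ⁻¹' {x}).Subsingleton := by
  let w := Spec.map (CommRingCat.ofHom (algebraMap k K))
  let π := pullback.fst f w
  let e := CommRingCat.ofHom (Groth.Agent.WeilLib.kStr f x)
  haveI : IsIso e := (ConcreteCategory.isIso_iff_bijective e).2 ⟨(Groth.Agent.WeilLib.kStr f x).injective, hx⟩
  haveI : IsIso (X.fromSpecResidueField x ≫ f) := by
    rw [Groth.Agent.WeilLib.fromSpecResidueField_comp]
    infer_instance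
  haveI : Subsingleton ↥(pullback (X.fromSpecResidueField x ≫ f) w) :=
    haveI : Subsingleton (Spec (CommRingCat.of K)) := inferInstanceAs (Subsingleton (PrimeSpectrum K))
    (Scheme.homeoOfIso (asIso (pullback.snd (X.fromSpecResidueField x ≫ f) w))).subsingleton
  haveI : Subsingleton ↥(pullback (X.fromSpecResidueField x) π) :=
    (Scheme.homeoOfIso (pullbackRightPullbackFstIso f w (X.fromSpecResidueField x))).subsingleton
  have hr : π.base ⁻¹' {x} = Set.range (pullback.snd (X.fromSpecResidueField x) π).base := by
    rw [Scheme.Pullback.range_snd, Scheme.range_fromSpecResidueField]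
  rw [hr]
  exact Set.subsingleton_range _

/-- Dense rational points make an irreducible scheme geometrically irreducible. -/
theorem geometricallyIrreducible_of_dense_rational [IrreducibleSpace X]
    (hd : Dense {x : X | Function.Surjective (Groth.Agent.WeilLib.kStr f x)}) : GeometricallyIrreducible f := by
  refine ⟨geometrically_iff_of_commRing_of_isClosedUnderIsomorphisms.mpr fun K _ _ => ?_⟩
  let w := Spec.map (CommRingCat.ofHom (algebraMap k K))
  let π := pullback.fst f w
  haveI : Surjective w := Groth.Agent.GeomConn.surjective_Spec_field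
  haveI : UniversallyOpen w := Groth.Agent.GrpField.PointBase.uopen K w
  haveI : Nonempty ↥(pullback f w) := ⟨(π.surjective (genericPoint X)).choose⟩
  haveI : PreirreducibleSpace ↥(pullback f w) := ⟨fun U V hU hV hUn hVn => by
    simp only [Set.univ_inter] at hUn hVn ⊢
    obtain ⟨a, haU, haV⟩ := nonempty_preirreducible_inter (π.isOpenMap U hU) (π.isOpenMap V hV) (hUn.image _) (hVn.image _)
    obtain ⟨x, ⟨⟨u, huU, hu⟩, ⟨v, hvV, hv⟩⟩, hx⟩ :=
      hd.inter_open_nonempty _ ((π.isOpenMap U hU).inter (π.isOpenMap V hV)) ⟨a, haU, haV⟩
    exact ⟨u, huU, (subsingleton_fibre f hx hu hv).symm ▸ hvV⟩⟩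
  exact ⟨inferInstance⟩

end Groth.Agent.SepBC

namespace Groth.Agent.SepBC

open TensorProduct

variable {k : Type u} [Field k] {X : Scheme.{u}} (f : X ⟶ Spec (CommRingCat.of k))

/-- The fibre over `x` of an extension of the base field is the spectrum of `κ(x) ⊗ K`. -/
theorem range_fibre (K : Type u) [Field K] [Algebra k K] (x : X) :
    letI := (Groth.Agent.WeilLib.kStr f x).toAlgebra
    ∃ m : Spec (CommRingCat.of (X.residueField x ⊗[k] K)) ⟶ pullback f (Spec.map (CommRingCat.ofHom (algebraMap k K))),
      IsPreimmersion m ∧ Set.range m.base = (pullback.fst f (Spec.map (CommRingCat.ofHom (algebraMap k K)))).base ⁻¹' {x} := by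
  letI := (Groth.Agent.WeilLib.kStr f x).toAlgebra
  let w := Spec.map (CommRingCat.ofHom (algebraMap k K))
  let π := pullback.fst f w
  let i := X.fromSpecResidueField x
  let e : pullback i π ≅ Spec (CommRingCat.of (X.residueField x ⊗[k] K)) :=
    pullbackRightPullbackFstIso f w i ≪≫ pullback.congrHom (Groth.Agent.WeilLib.fromSpecResidueField_comp f x) (rfl : w = w) ≪≫
      pullbackSpecIso k (X.residueField x) K
  refine ⟨e.inv ≫ pullback.snd i π, inferInstance, ?_⟩
  rw [← Scheme.range_fromSpecResidueField x, ← Scheme.Pullback.range_snd, Scheme.Hom.comp_base, TopCat.coe_comp, Set.range_comp,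
    e.inv.surjective.range_eq, Set.image_univ]

theorem isIrreducible_fibre {K : Type u} [Field K] [Algebra k K] [Algebra.IsAlgebraic k K] {x : X}
    (hx : letI := (Groth.Agent.WeilLib.kStr f x).toAlgebra; separableClosure k (X.residueField x) = ⊥) :
    IsIrreducible ((pullback.fst f (Spec.map (CommRingCat.ofHom (algebraMap k K)))).base ⁻¹' {x}) := by
  letI := (Groth.Agent.WeilLib.kStr f x).toAlgebra
  obtain ⟨m, -, hm⟩ := range_fibre f K x
  haveI := Groth.Agent.GeomConn.irreducibleSpace_pullback_primary (K := K) hx
  haveI : IrreducibleSpace ↥(Spec (CommRingCat.of (X.residueField x ⊗[k] K))) :=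
    (pullbackSpecIso k (X.residueField x) K).hom.homeomorph.irreducibleSpace_iff.1 ‹_›
  rw [← hm, ← Set.image_univ]
  exact (IrreducibleSpace.isIrreducible_univ _).image _ m.continuous.continuousOn

theorem geometricallyConnected_of_point [ConnectedSpace X] {x : X}
    (hx : letI := (Groth.Agent.WeilLib.kStr f x).toAlgebra; separableClosure k (X.residueField x) = ⊥) :
    GeometricallyConnected f := by
  refine ⟨geometrically_iff_of_commRing_of_isClosedUnderIsomorphisms.mpr fun K _ _ => ?_⟩
  have h := Groth.Agent.GeomConn.isConnected_preimage_of_fibre (K := K) f isClosed_univ (isConnected_univ (α := X))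
    (Set.mem_univ x) (isIrreducible_fibre f (K := AlgebraicClosure k) hx).isPreirreducible.isPreconnected
    (fun _ _ => Set.mem_univ _) subset_rfl
  rw [Set.preimage_univ] at h
  exact connectedSpace_iff_univ.mpr h

theorem flat_fst (K : Type u) [Field K] [Algebra k K] :
    Flat (pullback.fst f (Spec.map (CommRingCat.ofHom (algebraMap k K)))) :=
  MorphismProperty.pullback_fst _ _ inferInstance

theorem geometricallyIrreducible_of_generic [IrreducibleSpace X]
    (hx : letI := (Groth.Agent.WeilLib.kStr f (genericPoint X)).toAlgebra;
      separableClosure k (X.residueField (genericPoint X)) = ⊥) : GeometricallyIrreducible f := by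
  let π := pullback.fst f (Spec.map (CommRingCat.ofHom (algebraMap k (SeparableClosure k))))
  haveI := flat_fst f (SeparableClosure k)
  have hF := (isIrreducible_fibre f (K := SeparableClosure k) hx).closure
  have huniv : closure (π.base ⁻¹' {genericPoint X}) = Set.univ := Set.eq_univ_of_forall fun z => by
    obtain ⟨η, hηz, hη⟩ := (Flat.generalizingMap (f := π)) (genericPoint_specializes (π z))
    exact isClosed_closure.stableUnderSpecialization hηz (subset_closure hη)
  rw [huniv] at hF
  exact geometricallyIrreducible f ((irreducibleSpace_def _).mpr hF)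

theorem mem_range_of_finite_separable [IrreducibleSpace X]
    (hirr : ∀ (E : Type u) [Field E] [Algebra k E] [FiniteDimensional k E] [Algebra.IsSeparable k E],
      IrreducibleSpace ↥(pullback f (Spec.map (CommRingCat.ofHom (algebraMap k E)))))
    (a : X.residueField (genericPoint X))
    (ha : letI := (Groth.Agent.WeilLib.kStr f (genericPoint X)).toAlgebra; IsSeparable k a) :
    letI := (Groth.Agent.WeilLib.kStr f (genericPoint X)).toAlgebra
    a ∈ Set.range (algebraMap k (X.residueField (genericPoint X))) := by
  letI := (Groth.Agent.WeilLib.kStr f (genericPoint X)).toAlgebra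
  let F : Type u := X.residueField (genericPoint X)
  let E := IntermediateField.adjoin k ({a} : Set F)
  haveI : FiniteDimensional k E := IntermediateField.adjoin.finiteDimensional ha.isIntegral
  haveI : Algebra.IsSeparable k E := (IntermediateField.isSeparable_adjoin_simple_iff_isSeparable k F).2 ha
  obtain ⟨m, hm, hrange⟩ := range_fibre f E (genericPoint X)
  let π := pullback.fst f (Spec.map (CommRingCat.ofHom (algebraMap k E)))
  haveI := flat_fst f E
  haveI : Surjective (Spec.map (CommRingCat.ofHom (algebraMap k E))) := Groth.Agent.GeomConn.surjective_Spec_field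
  haveI : IrreducibleSpace ↥(pullback f (Spec.map (CommRingCat.ofHom (algebraMap k E)))) := hirr E
  let η := genericPoint ↥(pullback f (Spec.map (CommRingCat.ofHom (algebraMap k E))))
  have hη : π η = genericPoint X := by
    obtain ⟨z, hz⟩ := π.surjective (genericPoint X)
    exact ((((genericPoint_specializes z).map π.continuous).trans (specializes_of_eq hz)).antisymm
      (genericPoint_specializes (π η))).eq
  haveI : Nonempty (PrimeSpectrum (F ⊗[k] E)) := by
    obtain ⟨p, -⟩ : η ∈ Set.range m.base := by rw [hrange]; exact hη
    exact ⟨p⟩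
  haveI : IrreducibleSpace (PrimeSpectrum (F ⊗[k] E)) := by
    obtain ⟨p, hp⟩ : η ∈ Set.range m.base := by rw [hrange]; exact hη
    refine (irreducibleSpace_def _).mpr ?_
    have : closure ({p} : Set (Spec (CommRingCat.of (F ⊗[k] E)))) = Set.univ := Set.eq_univ_of_forall fun q =>
      specializes_iff_mem_closure.1 ((m.isEmbedding.isInducing.specializes_iff).1 (by rw [hp]; exact genericPoint_specializes _))
    rw [Set.top_eq_univ, ← this]
    exact isIrreducible_singleton.closure
  haveI : IsReduced (F ⊗[k] E) := by
    haveI : Algebra.FormallyUnramified k E := Algebra.FormallyUnramified.of_isSeparable k E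
    exact Algebra.FormallyUnramified.isReduced_of_field F (F ⊗[k] E)
  haveI : IsDomain (F ⊗[k] E) := by
    have h := (PrimeSpectrum.irreducibleSpace_iff_isPrime_nilradical (R := F ⊗[k] E)).1 inferInstance
    rw [nilradical_eq_zero (F ⊗[k] E)] at h
    haveI : (⊥ : Ideal (F ⊗[k] E)).IsPrime := h
    exact IsDomain.of_bot_isPrime (F ⊗[k] E)
  haveI : Module.Finite F (F ⊗[k] E) := inferInstance
  have hfield : IsField (F ⊗[k] E) := isField_of_isIntegral_of_isField' (R := F) (S := F ⊗[k] E) (Field.toIsField F)
  let μ : F ⊗[k] E →ₐ[F] F := Algebra.TensorProduct.lift (Algebra.ofId F F) E.val (fun x y => mul_comm _ _)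
  have hμ : Function.Injective μ.toRingHom := (injective_iff_map_eq_zero μ.toRingHom).2 fun x hx0 => by
    by_contra hne
    obtain ⟨y, hy⟩ := hfield.mul_inv_cancel hne
    have h01 := congrArg μ.toRingHom hy
    rw [RingHom.map_mul, hx0, zero_mul, RingHom.map_one] at h01
    exact zero_ne_one h01
  have hdim : Module.finrank F (F ⊗[k] E) ≤ 1 := by
    refine (LinearMap.finrank_le_finrank_of_injective (f := μ.toLinearMap) hμ).trans ?_
    rw [Module.finrank_self]
  rw [Module.finrank_baseChange] at hdim
  have h1 : Module.finrank k E = 1 := le_antisymm hdim Module.finrank_pos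
  have h2 : a ∈ E := IntermediateField.subset_adjoin k _ rfl
  rw [show E = ⊥ from IntermediateField.finrank_eq_one_iff.1 h1] at h2
  exact IntermediateField.mem_bot.1 h2

theorem mem_range_of_geometricallyIrreducible [IrreducibleSpace X] [GeometricallyIrreducible f]
    (a : X.residueField (genericPoint X))
    (ha : letI := (Groth.Agent.WeilLib.kStr f (genericPoint X)).toAlgebra; IsSeparable k a) :
    letI := (Groth.Agent.WeilLib.kStr f (genericPoint X)).toAlgebra
    a ∈ Set.range (algebraMap k (X.residueField (genericPoint X))) :=
  mem_range_of_finite_separable f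
    (fun E _ _ _ _ => GeometricallyIrreducible.geometrically_irreducibleSpace (f := f) _ _ _ (.of_hasPullback _ _)) a ha

theorem geometricallyIrreducible_of_finite_separable
    (hirr : ∀ (E : Type u) [Field E] [Algebra k E] [FiniteDimensional k E] [Algebra.IsSeparable k E],
      IrreducibleSpace ↥(pullback f (Spec.map (CommRingCat.ofHom (algebraMap k E))))) :
    GeometricallyIrreducible f := by
  haveI : IrreducibleSpace X := by
    haveI := hirr k
    haveI : Surjective (Spec.map (CommRingCat.ofHom (algebraMap k k))) := Groth.Agent.GeomConn.surjective_Spec_field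
    exact Function.Surjective.irreducibleSpace (pullback.fst f (Spec.map (CommRingCat.ofHom (algebraMap k k)))).continuous
      (pullback.fst f (Spec.map (CommRingCat.ofHom (algebraMap k k)))).surjective
  letI := (Groth.Agent.WeilLib.kStr f (genericPoint X)).toAlgebra
  refine geometricallyIrreducible_of_generic f (eq_bot_iff.2 fun a ha => IntermediateField.mem_bot.2 ?_)
  exact mem_range_of_finite_separable f hirr a (mem_separableClosure_iff.1 ha)

end Groth.Agent.SepBC
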