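import Groth.Agent.GeomConn.Basic

/-!
# Geometric irreducibility and connectedness via the separable closure
-/

set_option autoImplicit false
set_option backward.isDefEq.respectTransparency false

universe u

open CategoryTheory CategoryTheory.Limits AlgebraicGeometry

namespace Groth.Agent.SepBC

variable {k : Type u} [Field k] {X : Scheme.{u}} (f : X ⟶ Spec (CommRingCat.of k))

local notation "gs" => Spec.map (CommRingCat.ofHom (algebraMap k (SeparableClosure k)))
local notation "ga" => Spec.map (CommRingCat.ofHom (algebraMap k (AlgebraicClosure k)))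
local notation "hh" => Spec.map (CommRingCat.ofHom (algebraMap (SeparableClosure k) (AlgebraicClosure k)))

theorem universallyInjective_hh : UniversallyInjective (hh) := by
  refine ((tfae_universallyInjective (hh)).out 0 1).2 ?_
  intro K hK
  letI := hK
  intro g₁ g₂ hg
  obtain ⟨φ₁, rfl⟩ := Spec.map_surjective g₁
  obtain ⟨φ₂, rfl⟩ := Spec.map_surjective g₂
  refine congrArg Spec.map (CommRingCat.hom_ext ?_)
  refine IsPurelyInseparable.injective_comp_algebraMap (SeparableClosure k) (AlgebraicClosure k) K ?_
  exact congrArg CommRingCat.Hom.hom (Spec.map_injective (((Spec.map_comp _ _).trans hg).trans (Spec.map_comp _ _).symm))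

/-- The comparison `X_k̄ ⟶ X_ksep`. -/
noncomputable def cmp : pullback f ga ⟶ pullback f gs :=
  (pullback.congrHom (rfl : f = f) (show ga = hh ≫ gs by
      rw [← Spec.map_comp, ← CommRingCat.ofHom_comp, ← IsScalarTower.algebraMap_eq])).hom ≫
    (pullbackLeftPullbackSndIso f gs hh).inv ≫ pullback.fst (pullback.snd f gs) hh

theorem isHomeomorph_cmp : IsHomeomorph (cmp f).base := by
  haveI : UniversallyInjective (hh) := universallyInjective_hh
  haveI : IsIntegralHom (hh) := IsIntegralHom.SpecMap_iff.mpr
    (algebraMap_isIntegral_iff.mpr inferInstance)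
  haveI : Surjective (hh) := ⟨Function.surjective_to_subsingleton (α := Spec (CommRingCat.of (AlgebraicClosure k))) _⟩
  haveI : UniversallyInjective (cmp f) := MorphismProperty.comp_mem _ _ _ inferInstance
    (MorphismProperty.comp_mem _ _ _ inferInstance (MorphismProperty.pullback_fst _ _ ‹UniversallyInjective (hh)›))
  haveI : Surjective (cmp f) := by unfold cmp; infer_instance
  haveI : UniversallyClosed (cmp f) := by unfold cmp; infer_instance
  exact isHomeomorph_iff_continuous_isClosedMap_bijective.mpr
    ⟨(cmp f).continuous, (cmp f).isClosedMap, (cmp f).injective, (cmp f).surjective⟩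

theorem geometricallyIrreducible (h : IrreducibleSpace ↥(pullback f gs)) : GeometricallyIrreducible f := by
  haveI : Surjective (ga) := ⟨Function.surjective_to_subsingleton (α := Spec (CommRingCat.of (AlgebraicClosure k))) _⟩
  haveI : IrreducibleSpace ↥(pullback f ga) :=
    Function.Surjective.irreducibleSpace (isHomeomorph_cmp f).homeomorph.symm.continuous
      (isHomeomorph_cmp f).homeomorph.symm.surjective
  refine ⟨Groth.Agent.GeomConn.geometrically_descends _
    (fun A B q _ h => @Groth.Agent.GeomConn.irreducibleSpace_of_surjective A B q _ h) f (ga) ?_⟩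
  refine geometrically_iff_of_commRing_of_isClosedUnderIsomorphisms.mpr fun K _ _ => ?_
  have h1 := Groth.Agent.GeomConn.isIrreducible_preimage_fst (k := AlgebraicClosure k) (K := K)
    (pullback.snd f (ga)) (IrreducibleSpace.isIrreducible_univ ↥(pullback f ga))
  rw [Set.preimage_univ] at h1
  exact (irreducibleSpace_def _).mpr h1

theorem geometricallyConnected (h : ConnectedSpace ↥(pullback f gs)) : GeometricallyConnected f := by
  haveI : Surjective (ga) := ⟨Function.surjective_to_subsingleton (α := Spec (CommRingCat.of (AlgebraicClosure k))) _⟩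
  haveI : ConnectedSpace ↥(pullback f ga) :=
    (isHomeomorph_cmp f).homeomorph.symm.surjective.connectedSpace (isHomeomorph_cmp f).homeomorph.symm.continuous
  refine ⟨Groth.Agent.GeomConn.geometrically_descends _
    (fun A B q _ h => @Groth.Agent.GeomConn.connectedSpace_of_surjective A B q _ h) f (ga) ?_⟩
  refine geometrically_iff_of_commRing_of_isClosedUnderIsomorphisms.mpr fun K _ _ => ?_
  have h1 := Groth.Agent.GeomConn.isConnected_preimage_fst (k := AlgebraicClosure k) (K := K)
    (pullback.snd f (ga)) (isConnected_univ (α := ↥(pullback f ga)))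
  rw [Set.preimage_univ] at h1
  exact connectedSpace_iff_univ.mpr h1

end Groth.Agent.SepBC
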