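import Groth.Agent.SepBC.Closed

/-!
# Geometric irreducibility from irreducibility of the square
-/

set_option autoImplicit false
set_option backward.isDefEq.respectTransparency false
set_option linter.style.haveILetI false

universe u

open CategoryTheory CategoryTheory.Limits AlgebraicGeometry TensorProduct

namespace Groth.Agent.SepBC

variable {k : Type u} [Field k] {X : Scheme.{u}} (f : X ⟶ Spec (CommRingCat.of k))

/-- The fibre of the square over the generic point dominates the base changes along its subfields. -/
theorem irreducibleSpace_of_square [IrreducibleSpace X] [IrreducibleSpace ↥(pullback f f)]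
    (E : letI := (Groth.Agent.WeilLib.kStr f (genericPoint X)).toAlgebra
      IntermediateField k (X.residueField (genericPoint X))) :
    letI := (Groth.Agent.WeilLib.kStr f (genericPoint X)).toAlgebra
    IrreducibleSpace ↥(pullback f (Spec.map (CommRingCat.ofHom (algebraMap k E)))) := by
  letI := (Groth.Agent.WeilLib.kStr f (genericPoint X)).toAlgebra
  let i := X.fromSpecResidueField (genericPoint X)
  let p := pullback.snd f f
  haveI : Surjective p := by
    haveI : Surjective f := ⟨fun y => ⟨genericPoint X, Subsingleton.elim _ _⟩⟩
    infer_instance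
  let q := genericPoint ↥(pullback f f)
  have hq : p q = genericPoint X := by
    obtain ⟨z, hz⟩ := p.surjective (genericPoint X)
    exact ((((genericPoint_specializes z).map p.continuous).trans (specializes_of_eq hz)).antisymm
      (genericPoint_specializes (p q))).eq
  haveI : IrreducibleSpace ↥(pullback p i) := by
    obtain ⟨t, ht⟩ : q ∈ Set.range (pullback.fst p i) := by
      rw [Scheme.Pullback.range_fst, Scheme.range_fromSpecResidueField]
      exact hq
    refine (irreducibleSpace_def _).mpr ?_
    have : closure ({t} : Set ↥(pullback p i)) = Set.univ := Set.eq_univ_of_forall fun r =>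
      specializes_iff_mem_closure.1 (((pullback.fst p i).isEmbedding.isInducing.specializes_iff).1
        (by rw [ht]; exact genericPoint_specializes _))
    rw [Set.top_eq_univ, ← this]
    exact isIrreducible_singleton.closure
  let e : pullback p i ≅ pullback f
      (Spec.map (CommRingCat.ofHom (algebraMap k (X.residueField (genericPoint X))))) :=
    pullbackLeftPullbackSndIso f f i ≪≫
      pullback.congrHom rfl (Groth.Agent.WeilLib.fromSpecResidueField_comp f (genericPoint X))
  haveI : IrreducibleSpace ↥(pullback f (Spec.map (CommRingCat.ofHom (algebraMap k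
      (X.residueField (genericPoint X)))))) := e.hom.homeomorph.irreducibleSpace_iff.1 ‹_›
  let s := Spec.map (CommRingCat.ofHom (algebraMap E (X.residueField (genericPoint X))))
  haveI : Surjective s := Groth.Agent.GeomConn.surjective_Spec_field
  let w := Spec.map (CommRingCat.ofHom (algebraMap k E))
  have hw : Spec.map (CommRingCat.ofHom (algebraMap k (X.residueField (genericPoint X)))) = s ≫ w := by
    rw [← Spec.map_comp]; rfl
  let π : pullback f (Spec.map (CommRingCat.ofHom (algebraMap k (X.residueField (genericPoint X))))) ⟶
      pullback f w :=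
    (pullback.congrHom rfl hw).hom ≫ (pullbackLeftPullbackSndIso f w s).inv ≫ pullback.fst (pullback.snd f w) s
  haveI : Surjective π := inferInstance
  exact Function.Surjective.irreducibleSpace π.continuous π.surjective

theorem mem_range_of_square [IrreducibleSpace X] [IrreducibleSpace ↥(pullback f f)]
    (a : X.residueField (genericPoint X))
    (ha : letI := (Groth.Agent.WeilLib.kStr f (genericPoint X)).toAlgebra; IsSeparable k a) :
    letI := (Groth.Agent.WeilLib.kStr f (genericPoint X)).toAlgebra
    a ∈ Set.range (algebraMap k (X.residueField (genericPoint X))) := by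
  letI := (Groth.Agent.WeilLib.kStr f (genericPoint X)).toAlgebra
  let F : Type u := X.residueField (genericPoint X)
  let E := IntermediateField.adjoin k ({a} : Set F)
  haveI : FiniteDimensional k E := IntermediateField.adjoin.finiteDimensional ha.isIntegral
  haveI : Algebra.IsSeparable k E := (IntermediateField.isSeparable_adjoin_simple_iff_isSeparable k F).2 ha
  obtain ⟨m, hm, hrange⟩ := range_fibre f E (genericPoint X)
  let π := pullback.fst f (Spec.map (CommRingCat.ofHom (algebraMap k E)))
  haveI := flat_fst f E
  haveI : Surjective (Spec.map (CommRingCat.ofHom (algebraMap k E))) := Groth.Agent.GeomConn.surjective_Spec_field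
  haveI : IrreducibleSpace ↥(pullback f (Spec.map (CommRingCat.ofHom (algebraMap k E)))) := irreducibleSpace_of_square f E
  let η := genericPoint ↥(pullback f (Spec.map (CommRingCat.ofHom (algebraMap k E))))
  have hη : π η = genericPoint X := by
    obtain ⟨z, hz⟩ := π.surjective (genericPoint X)
    exact ((((genericPoint_specializes z).map π.continuous).trans (specializes_of_eq hz)).antisymm
      (genericPoint_specializes (π η))).eq
  haveI : Nonempty (PrimeSpectrum (F ⊗[k] E)) := by
    obtain ⟨p, -⟩ : η ∈ Set.range m.base := by rw [hrange]; exact hη
    exact ⟨p⟩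
  haveI : IrreducibleSpace (PrimeSpectrum (F ⊗[k] E)) := by
    obtain ⟨p, hp⟩ : η ∈ Set.range m.base := by rw [hrange]; exact hη
    refine (irreducibleSpace_def _).mpr ?_
    have : closure ({p} : Set (Spec (CommRingCat.of (F ⊗[k] E)))) = Set.univ := Set.eq_univ_of_forall fun q =>
      specializes_iff_mem_closure.1 ((m.isEmbedding.isInducing.specializes_iff).1 (by rw [hp]; exact genericPoint_specializes _))
    rw [Set.top_eq_univ, ← this]
    exact isIrreducible_singleton.closure
  haveI : IsReduced (F ⊗[k] E) := by
    haveI : Algebra.FormallyUnramified k E := Algebra.FormallyUnramified.of_isSeparable k E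
    exact Algebra.FormallyUnramified.isReduced_of_field F (F ⊗[k] E)
  haveI : IsDomain (F ⊗[k] E) := by
    have h := (PrimeSpectrum.irreducibleSpace_iff_isPrime_nilradical (R := F ⊗[k] E)).1 inferInstance
    rw [nilradical_eq_zero (F ⊗[k] E)] at h
    haveI : (⊥ : Ideal (F ⊗[k] E)).IsPrime := h
    exact IsDomain.of_bot_isPrime (F ⊗[k] E)
  haveI : Module.Finite F (F ⊗[k] E) := inferInstance
  have hfield : IsField (F ⊗[k] E) := isField_of_isIntegral_of_isField' (R := F) (S := F ⊗[k] E) (Field.toIsField F)
  let μ : F ⊗[k] E →ₐ[F] F := Algebra.TensorProduct.lift (Algebra.ofId F F) E.val (fun x y => mul_comm _ _)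
  have hμ : Function.Injective μ.toRingHom := (injective_iff_map_eq_zero μ.toRingHom).2 fun x hx0 => by
    by_contra hne
    obtain ⟨y, hy⟩ := hfield.mul_inv_cancel hne
    have h01 := congrArg μ.toRingHom hy
    rw [RingHom.map_mul, hx0, zero_mul, RingHom.map_one] at h01
    exact zero_ne_one h01
  have hdim : Module.finrank F (F ⊗[k] E) ≤ 1 := by
    refine (LinearMap.finrank_le_finrank_of_injective (f := μ.toLinearMap) hμ).trans ?_
    rw [Module.finrank_self]
  rw [Module.finrank_baseChange] at hdim
  have h1 : Module.finrank k E = 1 := le_antisymm hdim Module.finrank_pos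
  have h2 : a ∈ E := IntermediateField.subset_adjoin k _ rfl
  rw [show E = ⊥ from IntermediateField.finrank_eq_one_iff.1 h1] at h2
  exact IntermediateField.mem_bot.1 h2

end Groth.Agent.SepBC
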